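import Mathlib.CategoryTheory.Triangulated.Pretriangulated
import Mathlib.CategoryTheory.Triangulated.TriangleShift
import Mathlib.Algebra.Homology.HomologicalComplex

/-!
Vanishing of morphisms into and out of the terms of a Postnikov system.
-/

set_option autoImplicit false

universe v u

open CategoryTheory CategoryTheory.Limits CategoryTheory.Pretriangulated

namespace Groth.Agent.Postnikov

variable {D : Type u} [Category.{v} D] [Preadditive D] [HasZeroObject D] [HasShift D ℤ]
  [∀ n : ℤ, (shiftFunctor D n).Additive] [Pretriangulated D]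

/-- All morphisms from `A⟦a⟧` to `B⟦b⟧` vanish. -/
def Van (A B : D) (a b : ℤ) : Prop := ∀ f : A⟦a⟧ ⟶ B⟦b⟧, f = 0

omit [HasZeroObject D] [Pretriangulated D] in
theorem Van.shift {A B : D} {a b a' b' : ℤ} (h : Van A B a b) (e : a' + b = a + b') :
    Van A B a' b' := by
  intro f
  let d := a' - a
  let eA := (shiftFunctorAdd' D a d a' (by omega)).app A
  let eB := (shiftFunctorAdd' D b d b' (by omega)).app B
  obtain ⟨g, hg⟩ := (shiftFunctor D d).map_surjective (eA.inv ≫ f ≫ eB.hom)
  rw [h g, Functor.map_zero, eq_comm] at hg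
  rw [← cancel_epi eA.inv, ← cancel_mono eB.hom, Category.assoc, hg, comp_zero, zero_comp]

omit [HasZeroObject D] [Pretriangulated D] in
theorem Van.left {A B : D} {b : ℤ} (h : Van A B 0 b) (f : A ⟶ B⟦b⟧) : f = 0 := by
  rw [← cancel_epi ((shiftFunctorZero D ℤ).hom.app A), h ((shiftFunctorZero D ℤ).hom.app A ≫ f)]
  simp

omit [HasZeroObject D] [Pretriangulated D] in
theorem Van.both {A B : D} (h : Van A B 0 0) (f : A ⟶ B) : f = 0 := by
  rw [← cancel_mono ((shiftFunctorZero D ℤ).inv.app B), h.left (f ≫ (shiftFunctorZero D ℤ).inv.app B),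
    zero_comp]

omit [HasZeroObject D] [Pretriangulated D] in
theorem van_right {A B : D} {a : ℤ} (h : ∀ f : A⟦a⟧ ⟶ B, f = 0) : Van A B a 0 := fun f => by
  rw [← cancel_mono ((shiftFunctorZero D ℤ).hom.app B), h (f ≫ (shiftFunctorZero D ℤ).hom.app B),
    zero_comp]

omit [HasZeroObject D] [Pretriangulated D] in
theorem van_left {A B : D} {b : ℤ} (h : ∀ f : A ⟶ B⟦b⟧, f = 0) : Van A B 0 b := fun f => by
  rw [← cancel_epi ((shiftFunctorZero D ℤ).inv.app A), h ((shiftFunctorZero D ℤ).inv.app A ≫ f)]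
  simp

variable (T : Triangle D) (hT : T ∈ distTriang D)

include hT

/-- A morphism into a shift of the first object killed by the first morphism vanishes when there is
nothing in the relevant shift of the third object. -/
theorem eq_zero_into {A : D} {s : ℤ} (f : A ⟶ T.obj₁⟦s⟧) (hf : f ≫ T.mor₁⟦s⟧' = 0)
    (h : Van A T.obj₃ 0 (s - 1)) : f = 0 := by
  have hS := Triangle.shift_distinguished _ (inv_rot_of_distTriang T hT) s
  obtain ⟨g, hg⟩ := Triangle.coyoneda_exact₂ _ hS f (by
    change f ≫ (s.negOnePow • T.mor₁⟦s⟧') = 0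
    rw [Linear.comp_units_smul, hf, smul_zero])
  have key : ∀ g' : A ⟶ (T.obj₃⟦(-1 : ℤ)⟧)⟦s⟧, g' = 0 := fun g' => by
    rw [← cancel_mono ((shiftFunctorAdd' D (-1) s (s - 1) (by omega)).inv.app T.obj₃), zero_comp]
    exact h.left _
  rw [hg, show g = 0 from key g]
  exact zero_comp

/-- A morphism out of the first object killing the map from the shifted third object vanishes when
nothing leaves the second object. -/
theorem eq_zero_out {B : D} {s : ℤ} (f : T.obj₁ ⟶ B⟦s⟧)
    (h₂ : Van T.obj₂ B 0 s) (h₃ : Van T.obj₃ B 0 (s + 1)) : f = 0 := by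
  have hI := inv_rot_of_distTriang T hT
  obtain ⟨g, hg⟩ := Triangle.yoneda_exact₂ _ hI f
    ((h₃.shift (a' := -1) (b' := s) (by omega)) (T.invRotate.mor₁ ≫ f))
  have : g = 0 := h₂.left g
  rw [hg, this]
  exact comp_zero

end Groth.Agent.Postnikov
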