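import Groth.Agent.Lib.Postnikov.Basic

/-!
Morphisms into and out of a Postnikov system.
-/

set_option autoImplicit false

universe v u

open CategoryTheory CategoryTheory.Limits CategoryTheory.Pretriangulated

namespace Groth.Agent.Postnikov

variable {D : Type u} [Category.{v} D] [Preadditive D] [HasZeroObject D] [HasShift D ℤ]
  [∀ n : ℤ, (shiftFunctor D n).Additive] [Pretriangulated D]
  {X : ℕ → D} {n : ℕ} {Y : ℕ → D} {a : ∀ k, Y k ⟶ X k} {b : ∀ k, X (k + 1) ⟶ Y k}
  {c : ∀ k, Y k ⟶ (Y (k + 1))⟦(1 : ℤ)⟧} (h0 : IsIso (a 0))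
  (hT : ∀ k, k < n → Triangle.mk (a (k + 1)) (b k) (c k) ∈ distTriang D)

include h0 hT

/-- A map into a shifted term is detected by its image in the complex. -/
theorem eq_zero_of_comp_a (k : ℕ) (hk : k ≤ n) : ∀ (A : D) (s : ℤ),
    (∀ i < k, Van A (X i) 0 (s + i - k)) →
      ∀ f : A ⟶ (Y k)⟦s⟧, f ≫ (a k)⟦s⟧' = 0 → f = 0 := by
  induction k with
  | zero =>
    intro A s _ f hf
    rwa [Preadditive.IsIso.comp_right_eq_zero] at hf
  | succ k ih =>
    intro A s hv f hf
    refine eq_zero_into _ (hT k hk) f hf (van_left fun g => ih (by omega) A (s - 1) (fun i hi => ?_) g ?_)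
    · exact (hv i (by omega)).shift (by omega)
    · exact ((hv k (by omega)).shift (a' := 0) (b' := s - 1) (by omega)).left _

/-- Nothing maps into a shifted term if nothing maps into the shifted complex. -/
theorem van_into (k : ℕ) (hk : k ≤ n) (A : D) (s : ℤ) (hv : ∀ i ≤ k, Van A (X i) 0 (s + i - k)) :
    Van A (Y k) 0 s :=
  van_left fun f => eq_zero_of_comp_a h0 hT k hk A s (fun i hi => hv i hi.le) f
    (((hv k le_rfl).shift (a' := 0) (b' := s) (by omega)).left _)

/-- Nothing maps out of a term if nothing maps out of the shifted complex. -/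
theorem van_out (k : ℕ) (hk : k ≤ n) : ∀ (B : D) (s : ℤ),
    (∀ i ≤ k, Van (X i) B 0 (s + k - i)) → Van (Y k) B 0 s := by
  induction k with
  | zero =>
    intro B s hv
    refine van_left fun f => ?_
    rw [← cancel_epi (inv (a 0)), comp_zero]
    exact ((hv 0 le_rfl).shift (a' := 0) (b' := s) (by omega)).left _
  | succ k ih =>
    intro B s hv
    exact van_left fun f => eq_zero_out _ (hT k hk) f ((hv (k + 1) le_rfl).shift (by omega))
      (ih (by omega) B (s + 1) fun i hi => (hv i (by omega)).shift (by omega))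

/-- A map into a term is detected by its image in the complex. -/
theorem eq_zero_of_comp_a₀ (k : ℕ) (hk : k ≤ n) (A : D)
    (hv : ∀ i < k, Van A (X i) 0 ((i : ℤ) - k)) (f : A ⟶ Y k) (hf : f ≫ a k = 0) : f = 0 := by
  have h := eq_zero_of_comp_a h0 hT k hk A 0 (fun i hi => (hv i hi).shift (by omega))
    (f ≫ (shiftFunctorZero D ℤ).inv.app (Y k)) (by
      erw [Category.assoc, ← (shiftFunctorZero D ℤ).inv.naturality, Functor.id_map, ← Category.assoc, hf,
        zero_comp])
  rwa [Preadditive.IsIso.comp_right_eq_zero] at h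

end Groth.Agent.Postnikov
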